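import Cfsg.Agent.H31.SpFour.Pick

/-!
Every non-scalar element of `Sp(4)` is, up to sign, conjugate to one whose upper left block is a
product of two class members.
-/

set_option autoImplicit false
set_option linter.style.haveILetI false

open Matrix

namespace H31.SP4

variable {F : Type*} [Field F] {t a : F}

abbrev Vec (F : Type*) := Fin 2 ⊕ Fin 2 → F

/-- The symplectic form. -/
def om (u v : Vec F) : F := u ⬝ᵥ (J (Fin 2) F *ᵥ v)

theorem om_def (u v : Vec F) : om u v =
    -(u (Sum.inl 0) * v (Sum.inr 0)) - u (Sum.inl 1) * v (Sum.inr 1) +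
      u (Sum.inr 0) * v (Sum.inl 0) + u (Sum.inr 1) * v (Sum.inl 1) := by
  simp [om, J, dotProduct, mulVec, Fintype.sum_sum_type, Fin.sum_univ_two]
  ring

theorem om_self (u : Vec F) : om u u = 0 := by rw [om_def]; ring
theorem om_swap (u v : Vec F) : om v u = -om u v := by simp only [om_def]; ring
theorem om_add_right (u v w : Vec F) : om u (v + w) = om u v + om u w := by
  simp only [om_def, Pi.add_apply]; ring
theorem om_sub_right (u v w : Vec F) : om u (v - w) = om u v - om u w := by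
  simp only [om_def, Pi.sub_apply]; ring
theorem om_smul_right (c : F) (u v : Vec F) : om u (c • v) = c * om u v := by
  simp only [om_def, Pi.smul_apply, smul_eq_mul]; ring
theorem om_add_left (u v w : Vec F) : om (v + w) u = om v u + om w u := by
  simp only [om_def, Pi.add_apply]; ring
theorem om_sub_left (u v w : Vec F) : om (v - w) u = om v u - om w u := by
  simp only [om_def, Pi.sub_apply]; ring
theorem om_smul_left (c : F) (u v : Vec F) : om (c • u) v = c * om u v := by
  simp only [om_def, Pi.smul_apply, smul_eq_mul]; ring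
theorem om_zero_right (u : Vec F) : om u 0 = 0 := by simp [om_def]
theorem om_zero_left (u : Vec F) : om (0 : Vec F) u = 0 := by simp [om_def]

theorem eq_zero_of_om {v : Vec F} (h : ∀ u, om u v = 0) : v = 0 := by
  classical
  ext x
  rcases x with i | i
  · have := h (Pi.single (Sum.inr i) 1)
    fin_cases i <;> simpa [om_def] using this
  · have := h (Pi.single (Sum.inl i) 1)
    fin_cases i <;> simpa [om_def] using this

theorem om_map (M : Sp4 F) (u v : Vec F) : om (M.val *ᵥ u) (M.val *ᵥ v) = om u v := by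
  have h := SymplecticGroup.mem_iff'.1 M.2
  unfold om
  conv_rhs => rw [← h]
  rw [← mulVec_mulVec, ← mulVec_mulVec, dotProduct_mulVec u M.valᵀ, vecMul_transpose]

/-- The matrix with the two given columns. -/
def cols (u v : Vec F) : Matrix (Fin 2 ⊕ Fin 2) (Fin 2) F := Matrix.of fun k j => ![u, v] j k

theorem cols_mul (M : Matrix (Fin 2 ⊕ Fin 2) (Fin 2 ⊕ Fin 2) F) (u v : Vec F) :
    M * cols u v = cols (M *ᵥ u) (M *ᵥ v) := by
  ext k j; fin_cases j <;> simp [cols, mul_apply, mulVec, dotProduct]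

theorem cols_gram (u v u' v' : Vec F) :
    (cols u v)ᵀ * J (Fin 2) F * cols u' v' = !![om u u', om u v'; om v u', om v v'] := by
  rw [Matrix.mul_assoc, cols_mul]
  ext i j
  fin_cases i <;> fin_cases j <;> simp [cols, mul_apply, om, dotProduct]

theorem two_of_frame (hg : Good t a) [Finite F] (g : Sp4 F)
    (E E' : Matrix (Fin 2 ⊕ Fin 2) (Fin 2) F) (B D : Matrix (Fin 2) (Fin 2) F)
    (h1 : Eᵀ * J (Fin 2) F * E = 0) (h2 : Eᵀ * J (Fin 2) F * E' = -1)
    (h3 : E'ᵀ * J (Fin 2) F * E' = 0) (h4 : g.val * E = E * B + E' * D) (hB : InK t a B) :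
    Two hg g := by
  have h2' : E'ᵀ * J (Fin 2) F * E = 1 := by
    have := congrArg transpose h2
    rw [transpose_mul, transpose_mul, transpose_transpose, J_transpose, transpose_neg,
      transpose_one, Matrix.neg_mul, Matrix.mul_neg, ← Matrix.mul_assoc] at this
    exact neg_inj.1 this
  have hP : fromCols E E' ∈ symplecticGroup (Fin 2) F := by
    rw [SymplecticGroup.mem_iff', transpose_fromCols, fromRows_mul, fromRows_mul_fromCols, h1, h2,
      h2', h3]
    rfl
  set P : Sp4 F := ⟨_, hP⟩ with hPdef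
  set M := P⁻¹ * g * P with hM
  have hPinv : (P⁻¹).val * P.val = 1 := by
    rw [← Submonoid.coe_mul, inv_mul_cancel, Submonoid.coe_one]
  have hcol : fromCols E E' * fromRows B D = g.val * E := by
    rw [fromCols_mul_fromRows, h4]
  have hMv : M.val * fromRows (1 : Matrix (Fin 2) (Fin 2) F) (0 : Matrix (Fin 2) (Fin 2) F) =
      fromRows B D := by
    calc M.val * fromRows (1 : Matrix (Fin 2) (Fin 2) F) (0 : Matrix (Fin 2) (Fin 2) F)
        = (P⁻¹).val * (g.val * (P.val * fromRows (1 : Matrix (Fin 2) (Fin 2) F)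
            (0 : Matrix (Fin 2) (Fin 2) F))) := by
          simp only [hM, Submonoid.coe_mul, Matrix.mul_assoc]
      _ = (P⁻¹).val * (P.val * fromRows B D) := by
          rw [hPdef, fromCols_mul_fromRows, Matrix.mul_one, Matrix.mul_zero, add_zero, ← hcol]
      _ = _ := by rw [← Matrix.mul_assoc, hPinv, Matrix.one_mul]
  have hblock : M.val.toBlocks₁₁ = B := by
    ext i j
    have := congrFun (congrFun hMv (Sum.inl i)) j
    simpa [mul_apply, Fintype.sum_sum_type, Matrix.one_apply, toBlocks₁₁] using this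
  obtain ⟨X₁, X₂, k1, k2, k3⟩ := hB
  have := (two_of_block hg k1 k2 (hblock.trans k3)).conj P
  rwa [show P * M * P⁻¹ = g by rw [hM]; group] at this

theorem two_of_pair (hg : Good t a) [Finite F] (g : Sp4 F) {u v : Vec F} (huv : om u v = 0)
    (hdet : om u (g.val *ᵥ u) * om v (g.val *ᵥ v) - om u (g.val *ᵥ v) * om v (g.val *ᵥ u) ≠ 0)
    (hcase : om u (g.val *ᵥ u) ≠ 0 ∨
      (om v (g.val *ᵥ v) = 0 ∧ om v (g.val *ᵥ u) = -om u (g.val *ᵥ v))) :
    Two hg g := by
  haveI := Fintype.ofFinite F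
  set E := cols u v with hEdef
  set N := Eᵀ * J (Fin 2) F * (g.val * E) with hN
  have hNe : N = !![om u (g.val *ᵥ u), om u (g.val *ᵥ v); om v (g.val *ᵥ u), om v (g.val *ᵥ v)] := by
    rw [hN, hEdef, cols_mul, cols_gram]
  have hNd : IsUnit N.det := by
    rw [hNe, det_fin_two_of]; exact isUnit_iff_ne_zero.2 hdet
  obtain ⟨B, hBK, hB⟩ := exists_inK hg (N := N) (by simpa [hNe] using hcase)
  have h1 : Eᵀ * J (Fin 2) F * E = 0 := by
    rw [hEdef, cols_gram, om_self, om_self, om_swap u v, huv, neg_zero]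
    ext i j; fin_cases i <;> fin_cases j <;> rfl
  set W := g.val * E - E * B with hW
  have hEW : Eᵀ * J (Fin 2) F * W = N := by
    rw [hW, Matrix.mul_sub, ← Matrix.mul_assoc _ E B, h1, Matrix.zero_mul, sub_zero, ← hN]
  have hgEE : (g.val * E)ᵀ * J (Fin 2) F * E = -Nᵀ := by
    rw [hN, transpose_mul (Eᵀ * J (Fin 2) F), transpose_mul Eᵀ, transpose_transpose, J_transpose,
      Matrix.neg_mul, Matrix.mul_neg, neg_neg, Matrix.mul_assoc]
  have hgg : (g.val * E)ᵀ * J (Fin 2) F * (g.val * E) = 0 := by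
    calc (g.val * E)ᵀ * J (Fin 2) F * (g.val * E)
        = Eᵀ * (g.valᵀ * J (Fin 2) F * g.val) * E := by
          simp only [transpose_mul, Matrix.mul_assoc]
      _ = 0 := by rw [SymplecticGroup.mem_iff'.1 g.2, h1]
  have hWW : Wᵀ * J (Fin 2) F * W = 0 := by
    rw [hW, transpose_sub, Matrix.sub_mul, Matrix.sub_mul, Matrix.mul_sub, Matrix.mul_sub,
      transpose_mul E B, hgg]
    rw [← Matrix.mul_assoc _ E B, hgEE, Matrix.mul_assoc Bᵀ Eᵀ, Matrix.mul_assoc Bᵀ (Eᵀ * _),
      ← hN, Matrix.mul_assoc Bᵀ (Eᵀ * _), ← Matrix.mul_assoc _ E B, h1, Matrix.zero_mul,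
      Matrix.mul_zero, Matrix.neg_mul, hB]
    abel
  refine two_of_frame hg g E (-(W * N⁻¹)) B (-N) h1 ?_ ?_ ?_ hBK
  · rw [Matrix.mul_neg, ← Matrix.mul_assoc, hEW, mul_nonsing_inv _ hNd]
  · rw [transpose_neg, Matrix.neg_mul, Matrix.neg_mul, Matrix.mul_neg, neg_neg, transpose_mul]
    calc (N⁻¹)ᵀ * Wᵀ * J (Fin 2) F * (W * N⁻¹)
        = (N⁻¹)ᵀ * (Wᵀ * J (Fin 2) F * W) * N⁻¹ := by simp only [Matrix.mul_assoc]
      _ = 0 := by rw [hWW, Matrix.mul_zero, Matrix.zero_mul]
  · rw [Matrix.neg_mul, Matrix.mul_neg, neg_neg, Matrix.mul_assoc, nonsing_inv_mul _ hNd,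
      Matrix.mul_one, hW]
    abel

theorem two_of_fixed (hg : Good t a) [Finite F] (g : Sp4 F) {e u : Vec F} (he0 : e ≠ 0)
    (he : g.val *ᵥ e = e) (hue : om u e = 0) (hQ : om u (g.val *ᵥ u) ≠ 0) : Two hg g := by
  set w := g.val *ᵥ u with hw
  set k := -(om u w)⁻¹ with hk
  have hk0 : k ≠ 0 := neg_ne_zero.2 (inv_ne_zero hQ)
  set f₂ := k • (w - e - (a * a) • u) with hf
  have heu : om e u = 0 := by rw [om_swap, hue, neg_zero]
  have hew : om e w = 0 := by rw [← he, hw, om_map, heu]
  have huf : om u f₂ = -1 := by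
    rw [hf, om_smul_right, om_sub_right, om_sub_right, om_smul_right, hue, om_self, mul_zero,
      sub_zero, sub_zero, hk, neg_mul, inv_mul_cancel₀ hQ]
  have hef : om e f₂ = 0 := by
    rw [hf, om_smul_right, om_sub_right, om_sub_right, om_smul_right, hew, heu, om_self, mul_zero,
      sub_zero, sub_zero, mul_zero]
  obtain ⟨z, hz⟩ : ∃ z, om e z ≠ 0 := by
    by_contra hall
    push Not at hall
    exact he0 (eq_zero_of_om fun v => by rw [om_swap, hall, neg_zero])
  set f₀ := (-(om e z)⁻¹) • z with hf0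
  have hef0 : om e f₀ = -1 := by rw [hf0, om_smul_right, neg_mul, inv_mul_cancel₀ hz]
  clear_value f₀
  set f₁ := f₀ + (-om f₂ f₀) • u + (om u f₀) • f₂ with hf1
  have k1 : om e f₁ = -1 := by
    rw [hf1, om_add_right, om_add_right, om_smul_right, om_smul_right, hef0, heu, hef]; ring
  have k2 : om u f₁ = 0 := by
    rw [hf1, om_add_right, om_add_right, om_smul_right, om_smul_right, om_self, huf]; ring
  have k3 : om f₂ f₁ = 0 := by
    rw [hf1, om_add_right, om_add_right, om_smul_right, om_smul_right, om_self, om_swap u f₂, huf]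
    ring
  refine two_of_frame hg g (cols e u) (cols f₁ f₂) !![1, 1; 0, a * a] !![0, 0; 0, k⁻¹] ?_ ?_ ?_ ?_
    (inK_triangular hg (one_mul _) one_ne_zero hg.a_ne_one.symm)
  · rw [cols_gram, om_self, om_self, heu, hue]
    ext i j; fin_cases i <;> fin_cases j <;> rfl
  · rw [cols_gram, k1, k2, hef, huf]
    ext i j; fin_cases i <;> fin_cases j <;> simp
  · rw [cols_gram, om_self, om_self, k3, om_swap f₂ f₁, k3, neg_zero]
    ext i j; fin_cases i <;> fin_cases j <;> rfl
  · rw [cols_mul, he, ← hw]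
    ext x j
    fin_cases j
    · simp [cols, mul_apply, Fin.sum_univ_two]
    · simp [cols, mul_apply, Fin.sum_univ_two, hf]
      field_simp
      ring

theorem neg_one_mem (F : Type*) [Field F] :
    (-1 : Matrix (Fin 2 ⊕ Fin 2) (Fin 2 ⊕ Fin 2) F) ∈ symplecticGroup (Fin 2) F :=
  SymplecticGroup.neg_mem (Submonoid.one_mem _)

/-- `-1`. -/
def negOne (F : Type*) [Field F] : Sp4 F := ⟨-1, neg_one_mem F⟩

theorem negOne_central (c : Sp4 F) : c * negOne F = negOne F * c :=
  Subtype.ext (by simp [negOne])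

theorem polar (g : Matrix (Fin 2 ⊕ Fin 2) (Fin 2 ⊕ Fin 2) F) (v v' : Vec F) :
    om (v + v') (g *ᵥ (v + v')) =
      om v (g *ᵥ v) + om v' (g *ᵥ v') + (om v (g *ᵥ v') + om v' (g *ᵥ v)) := by
  rw [mulVec_add, om_add_right, om_add_left, om_add_left]; ring

theorem exists_eigen (g : Sp4 F) {u : Vec F} (hQ : om u (g.val *ᵥ u) ≠ 0)
    (hall : ∀ v, om u v = 0 → om u (g.val *ᵥ u) * om v (g.val *ᵥ v) =
      om u (g.val *ᵥ v) * om v (g.val *ᵥ u)) :
    ∃ (η : F) (e : Vec F), (η = 1 ∨ η = -1) ∧ e ≠ 0 ∧ g.val *ᵥ e = η • e ∧ om u e = 0 := by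
  classical
  set w := g.val *ᵥ u with hw
  let L : Vec F →ₗ[F] F × F :=
    { toFun := fun v => (om u v, om w v)
      map_add' := fun x y => by simp [om_add_right]
      map_smul' := fun c x => by simp [om_smul_right] }
  have hdim : 2 ≤ Module.finrank F (LinearMap.ker L) := by
    have h1 := LinearMap.finrank_range_add_finrank_ker L
    have h2 := Submodule.finrank_le (LinearMap.range L)
    simp only [Module.finrank_prod, Module.finrank_self, Module.finrank_pi,
      Fintype.card_sum, Fintype.card_fin] at h1 h2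
    omega
  have hQW : ∀ v, om u v = 0 → om w v = 0 → om v (g.val *ᵥ v) = 0 := by
    intro v h1 h2
    have := hall v h1
    rw [om_swap w v, h2, neg_zero, mul_zero] at this
    exact (mul_eq_zero.1 this).resolve_left hQ
  let b := Module.finBasis F (LinearMap.ker L)
  set v₁ : Vec F := (b ⟨0, by omega⟩ : LinearMap.ker L).1 with hv1
  set v₂ : Vec F := (b ⟨1, by omega⟩ : LinearMap.ker L).1 with hv2
  have hm : ∀ i, om u (b i).1 = 0 ∧ om w (b i).1 = 0 := fun i => by
    have := LinearMap.mem_ker.1 (b i).2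
    exact ⟨congrArg Prod.fst this, congrArg Prod.snd this⟩
  obtain ⟨hu1, hw1⟩ := hm ⟨0, by omega⟩
  obtain ⟨hu2, hw2⟩ := hm ⟨1, by omega⟩
  rw [← hv1] at hu1 hw1
  rw [← hv2] at hu2 hw2
  have hind : ∀ c₁ c₂ : F, c₁ • v₁ + c₂ • v₂ = 0 → c₁ = 0 ∧ c₂ = 0 := by
    intro c₁ c₂ hc
    have hne : (⟨0, by omega⟩ : Fin (Module.finrank F (LinearMap.ker L))) ≠ ⟨1, by omega⟩ := by
      simp [Fin.ext_iff]
    have hp := (LinearIndepOn.pair_iff b hne).1 (b.linearIndependent.linearIndepOn _)
    exact hp c₁ c₂ (Subtype.ext (by simpa using hc))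
  have hspan : ∀ x : Vec F, ∃ p q r s : F, p • u + q • w + r • v₁ + s • v₂ = x := by
    have hli : LinearIndependent F ![u, w, v₁, v₂] := by
      rw [Fintype.linearIndependent_iff]
      intro c hc
      simp [Fin.sum_univ_four] at hc
      have e1 := congrArg (om u) hc
      simp only [om_add_right, om_smul_right, om_self, hu1, hu2, om_zero_right, mul_zero, zero_add,
        add_zero] at e1
      have q0 : c 1 = 0 := (mul_eq_zero.1 e1).resolve_right hQ
      have e2 := congrArg (om w) hc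
      simp only [om_add_right, om_smul_right, om_self, hw1, hw2, om_zero_right, mul_zero,
        add_zero, om_swap u w] at e2
      have p0 : c 0 = 0 := (mul_eq_zero.1 e2).resolve_right (neg_ne_zero.2 hQ)
      rw [p0, q0, zero_smul, zero_smul, zero_add, zero_add] at hc
      obtain ⟨r0, s0⟩ := hind _ _ hc
      intro i; fin_cases i <;> assumption
    have htop := hli.span_eq_top_of_card_eq_finrank (by simp)
    intro x
    obtain ⟨c, hc⟩ := (Submodule.mem_span_range_iff_exists_fun F).1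
      (htop ▸ Submodule.mem_top : x ∈ Submodule.span F (Set.range ![u, w, v₁, v₂]))
    refine ⟨c 0, c 1, c 2, c 3, ?_⟩
    rw [← hc]
    simp [Fin.sum_univ_four]
  have hk : om v₁ v₂ ≠ 0 := by
    intro h0
    have : v₂ = 0 := eq_zero_of_om fun x => by
      obtain ⟨p, q, r, s, rfl⟩ := hspan x
      simp [om_add_left, om_smul_left, hu2, hw2, h0, om_self]
    exact one_ne_zero (hind 0 1 (by rw [this]; simp)).2
  set η := om v₁ (g.val *ᵥ v₂) / om v₁ v₂ with hη
  have hηk : η * om v₁ v₂ = om v₁ (g.val *ᵥ v₂) := div_mul_cancel₀ _ hk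
  have hpol : om v₁ (g.val *ᵥ v₂) + om v₂ (g.val *ᵥ v₁) = 0 := by
    have := hQW (v₁ + v₂) (by rw [om_add_right, hu1, hu2, add_zero])
      (by rw [om_add_right, hw1, hw2, add_zero])
    rwa [polar, hQW v₁ hu1 hw1, hQW v₂ hu2 hw2, add_zero, zero_add] at this
  have hgv : ∀ v, om u v = 0 → om w v = 0 → om v₁ (g.val *ᵥ v) = η * om v₁ v →
      om v₂ (g.val *ᵥ v) = η * om v₂ v →
      g.val *ᵥ v = η • v + (om u (g.val *ᵥ v) / om u w) • w := by
    intro v h1 h2 h3 h4
    set lam := om u (g.val *ᵥ v) / om u w with hlam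
    refine sub_eq_zero.1 (eq_zero_of_om fun x => ?_)
    obtain ⟨p, q, r, s, rfl⟩ := hspan x
    have i1 : om w (g.val *ᵥ v) = 0 := by rw [hw, om_map, h1]
    have i2 : lam * om u w = om u (g.val *ᵥ v) := div_mul_cancel₀ _ hQ
    simp only [om_add_left, om_smul_left, om_sub_right, om_add_right, om_smul_right, h1, h2, i1,
      h3, h4, om_self, om_swap w v₁, hw1, om_swap w v₂, hw2]
    linear_combination (-p) * i2
  have g1 := hgv v₁ hu1 hw1 (by rw [hQW v₁ hu1 hw1, om_self, mul_zero])
    (by rw [eq_neg_of_add_eq_zero_right hpol, om_swap v₁ v₂, mul_neg, hηk])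
  have g2 := hgv v₂ hu2 hw2 hηk.symm (by rw [hQW v₂ hu2 hw2, om_self, mul_zero])
  set l₁ := om u (g.val *ᵥ v₁) / om u w
  set l₂ := om u (g.val *ᵥ v₂) / om u w
  have hη2 : η = 1 ∨ η = -1 := by
    have h := om_map g v₁ v₂
    rw [g1, g2] at h
    simp only [om_add_left, om_smul_left, om_add_right, om_smul_right, om_self,
      om_swap w v₁, hw1, hw2, mul_zero, neg_zero, add_zero] at h
    refine mul_self_eq_one_iff.1 (mul_right_cancel₀ hk ?_)
    linear_combination h
  by_cases hl : l₁ = 0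
  · refine ⟨η, v₁, hη2, fun h0 => hk (by rw [h0, om_zero_left]), ?_, hu1⟩
    rw [g1, hl, zero_smul, add_zero]
  · refine ⟨η, l₂ • v₁ + (-l₁) • v₂, hη2, fun h0 => hl (neg_eq_zero.1 (hind _ _ h0).2), ?_, ?_⟩
    · rw [mulVec_add, mulVec_smul, mulVec_smul, g1, g2]
      module
    · rw [om_add_right, om_smul_right, om_smul_right, hu1, hu2]; ring

theorem exists_pair (g : Sp4 F) (hg1 : g ≠ 1) (hg2 : g ≠ negOne F) :
    ∃ u v, om u v = 0 ∧ om u (g.val *ᵥ v) ≠ 0 := by
  classical
  by_contra hne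
  push Not at hne
  let e : Fin 2 ⊕ Fin 2 → Vec F := fun i => Pi.single i 1
  set G := g.val with hG
  have hcol : ∀ i j, (G *ᵥ e j) i = G i j := fun i j => by simp [e]
  set d := G (Sum.inl 0) (Sum.inl 0) with hd
  have key : ∀ u v : Vec F, om u v = 0 → om u (G *ᵥ v) = 0 := hne
  have z : ∀ i j, i ≠ j → G i j = 0 := by
    intro i j hij
    have := key (e i.swap) (e j) (by
      rcases i with i | i <;> rcases j with j | j <;> fin_cases i <;> fin_cases j <;>
        first | exact absurd rfl hij | simp [om_def, e])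
    rcases i with i | i <;> fin_cases i <;> simpa [om_def, e, hcol] using this
  have h1 : G (Sum.inl 1) (Sum.inl 1) = d := by
    have := key (e (Sum.inr 0) - e (Sum.inr 1)) (e (Sum.inl 0) + e (Sum.inl 1))
      (by simp [om_def, e])
    simp [om_def, e, mulVec_add, z] at this
    linear_combination -this
  have h2 : G (Sum.inr 1) (Sum.inr 1) = G (Sum.inr 0) (Sum.inr 0) := by
    have := key (e (Sum.inl 0) - e (Sum.inl 1)) (e (Sum.inr 0) + e (Sum.inr 1))
      (by simp [om_def, e])
    simp [om_def, e, mulVec_add, z] at this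
    linear_combination this
  have h3 : G (Sum.inr 0) (Sum.inr 0) = d := by
    have := key (e (Sum.inl 0) + e (Sum.inr 1)) (e (Sum.inr 0) + e (Sum.inl 1))
      (by simp [om_def, e])
    simp [om_def, e, mulVec_add, z] at this
    linear_combination -this + h1
  have hgd : G = d • 1 := by
    ext i j
    by_cases hij : i = j
    · subst hij
      rcases i with i | i <;> fin_cases i <;> simp [h1, h2, h3, hd]
    · simp [z i j hij, one_apply_ne hij]
  have hd2 := om_map g (e (Sum.inl 0)) (e (Sum.inr 0))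
  rw [← hG, hgd] at hd2
  simp [om_def, e] at hd2
  rcases mul_self_eq_one_iff.1 hd2 with hd2 | hd2
  · exact hg1 (Subtype.ext (by rw [← hG, hgd, hd2, one_smul]; rfl))
  · exact hg2 (Subtype.ext (by rw [← hG, hgd, hd2, neg_one_smul]; rfl))

theorem covers (hg : Good t a) [Finite F] (g : Sp4 F) (hg1 : g ≠ 1) (hg2 : g ≠ negOne F) :
    Two hg g ∨ Two hg (negOne F * g) := by
  by_cases hQ : ∃ u, om u (g.val *ᵥ u) ≠ 0
  · obtain ⟨u, hu⟩ := hQ
    by_cases hall : ∀ v, om u v = 0 → om u (g.val *ᵥ u) * om v (g.val *ᵥ v) =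
        om u (g.val *ᵥ v) * om v (g.val *ᵥ u)
    · obtain ⟨η, e, hη, he0, he, hue⟩ := exists_eigen g hu hall
      rcases hη with rfl | rfl
      · exact Or.inl (two_of_fixed hg g he0 (by rw [he, one_smul]) hue hu)
      · refine Or.inr (two_of_fixed hg _ he0 ?_ hue ?_)
        · simp [negOne, neg_mulVec, he]
        · have : (negOne F * g).val *ᵥ u = (-1 : F) • (g.val *ᵥ u) := by
            simp [negOne, neg_mulVec]
          rw [this, om_smul_right]
          exact mul_ne_zero (neg_ne_zero.2 one_ne_zero) hu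
    · push Not at hall
      obtain ⟨v, hv, hne⟩ := hall
      exact Or.inl (two_of_pair hg g hv (sub_ne_zero.2 hne) (Or.inl hu))
  · push Not at hQ
    obtain ⟨u, v, huv, hne⟩ := exists_pair g hg1 hg2
    have hskew : om v (g.val *ᵥ u) = -om u (g.val *ᵥ v) := by
      have := hQ (u + v)
      rw [polar, hQ u, hQ v, zero_add, zero_add] at this
      exact eq_neg_of_add_eq_zero_right this
    refine Or.inl (two_of_pair hg g huv ?_ (Or.inr ⟨hQ v, hskew⟩))
    rw [hQ u, hskew, zero_mul, zero_sub, mul_neg, neg_neg]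
    exact mul_ne_zero hne hne

end H31.SP4
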