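import Mathlib

/-!
`Sp(4)`: the conjugacy class of a Siegel Levi element `diag(X, X⁻ᵀ)` where `X` has irreducible
characteristic polynomial, and products of two members of that class.
-/

set_option autoImplicit false
set_option linter.style.haveILetI false

open Matrix

namespace H31.SP4

variable {F : Type*} [Field F] {t a : F}

/-- The parameters `(t, a)` are admissible. -/
structure Good (t a : F) : Prop where
  t_ne : t ≠ 0
  a_ne_one : a ≠ 1
  no_root : ∀ z : F, z * z - t * z + a ≠ 0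

theorem Good.a_ne (h : Good t a) : a ≠ 0 := fun ha => h.no_root 0 (by simp [ha])

/-- The set of `2 × 2` matrices with trace `t` and determinant `a`. -/
def InCls (t a : F) (X : Matrix (Fin 2) (Fin 2) F) : Prop := X.trace = t ∧ X.det = a

theorem InCls.transpose {X : Matrix (Fin 2) (Fin 2) F} (h : InCls t a X) : InCls t a Xᵀ :=
  ⟨by rw [trace_transpose]; exact h.1, by rw [det_transpose]; exact h.2⟩

theorem InCls.isUnit_det {X : Matrix (Fin 2) (Fin 2) F} (h : InCls t a X) (hg : Good t a) :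
    IsUnit X.det := by rw [h.2]; exact isUnit_iff_ne_zero.2 hg.a_ne

/-- The companion matrix. -/
def comp (t a : F) : Matrix (Fin 2) (Fin 2) F := !![0, -a; 1, t]

theorem inCls_comp (t a : F) : InCls t a (comp t a) :=
  ⟨by simp [comp, trace_fin_two], by simp [comp, det_fin_two]⟩

theorem InCls.cayley {X : Matrix (Fin 2) (Fin 2) F} (h : InCls t a X) :
    X * X = t • X - a • 1 := by
  obtain ⟨h1, h2⟩ := h
  rw [trace_fin_two] at h1
  rw [det_fin_two] at h2
  subst h1 h2
  ext i j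
  fin_cases i <;> fin_cases j <;> simp [Matrix.mul_apply, Fin.sum_univ_two] <;> ring

theorem InCls.exists_conj {X : Matrix (Fin 2) (Fin 2) F} (h : InCls t a X) (hg : Good t a) :
    ∃ P : Matrix (Fin 2) (Fin 2) F, P.det ≠ 0 ∧ X * P = P * comp t a := by
  obtain ⟨h1, h2⟩ := h
  rw [trace_fin_two] at h1
  rw [det_fin_two] at h2
  refine ⟨!![1, X 0 0; 0, X 1 0], ?_, ?_⟩
  · simp only [det_fin_two_of, one_mul, mul_zero, sub_zero]
    intro h10
    refine hg.no_root (X 0 0) ?_
    rw [← h1, ← h2, h10]; ring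
  · ext i j
    fin_cases i <;> fin_cases j <;>
      simp [Matrix.mul_apply, Fin.sum_univ_two, comp] <;>
      (subst h1 h2; ring)

theorem Good.eq_zero (hg : Good t a) {X : Matrix (Fin 2) (Fin 2) F} (h : InCls t a X)
    {R : Matrix (Fin 2) (Fin 2) F} (hR : X * R * Xᵀ = R) : R = 0 := by
  set Y := Xᵀ with hY
  have h2 : X * X * R * (Y * Y) = R := by
    calc X * X * R * (Y * Y) = X * (X * R * Y) * Y := by simp only [mul_assoc]
      _ = R := by rw [hR, hR]
  have h3 : R = t • (R * Y) - a • (R * (Y * Y)) := by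
    conv_lhs => rw [← h2, h.cayley]
    simp only [sub_mul, smul_mul_assoc, one_mul]
    congr 2
    rw [← mul_assoc, hR]
  have hcY : Y * Y = t • Y - a • 1 := h.transpose.cayley
  have h4 : R * ((a * t - t) • Y + (1 - a * a) • 1) = 0 := by
    rw [hcY] at h3
    simp only [mul_add, mul_smul_comm, mul_one, mul_sub, smul_sub, smul_smul] at h3 ⊢
    rw [sub_smul, sub_smul, one_smul]
    refine (?_ : _ = R - (t • (R * Y) - ((a * t) • (R * Y) - (a * a) • R))).trans
      (sub_eq_zero.2 h3)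
    abel
  have hdet : ((a * t - t) • Y + (1 - a * a) • 1).det ≠ 0 := by
    obtain ⟨h1, h2⟩ := h.transpose
    rw [← hY, trace_fin_two] at h1
    rw [← hY, det_fin_two] at h2
    have hc : a * t - t ≠ 0 := by
      rw [show a * t - t = (a - 1) * t by ring]
      exact mul_ne_zero (sub_ne_zero.2 hg.a_ne_one) hg.t_ne
    intro h0
    refine hg.no_root (-(1 - a * a) / (a * t - t)) ?_
    have he : (1 - a * a) * (1 - a * a) + (1 - a * a) * (a * t - t) * t +
        (a * t - t) * (a * t - t) * a = 0 := by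
      rw [← h0]
      simp only [det_fin_two, Matrix.add_apply, Matrix.smul_apply, smul_eq_mul, one_apply_eq,
        one_apply_ne (show (0 : Fin 2) ≠ 1 by decide), one_apply_ne (show (1 : Fin 2) ≠ 0 by decide),
        mul_zero, add_zero, mul_one]
      linear_combination -(1 - a * a) * (a * t - t) * h1 - (a * t - t) * (a * t - t) * h2
    generalize 1 - a * a = c0 at he ⊢
    generalize a * t - t = c1 at he hc ⊢
    field_simp
    linear_combination he
  have hu : IsUnit ((a * t - t) • Y + (1 - a * a) • 1) :=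
    (Matrix.isUnit_iff_isUnit_det _).2 (isUnit_iff_ne_zero.2 hdet)
  exact hu.mul_left_eq_zero.1 h4

theorem Good.exists_symm (hg : Good t a) [Finite F] {X : Matrix (Fin 2) (Fin 2) F}
    (h : InCls t a X) {K : Matrix (Fin 2) (Fin 2) F} (hK : Kᵀ = K) :
    ∃ R : Matrix (Fin 2) (Fin 2) F, Rᵀ = R ∧ R - X * R * Xᵀ = K := by
  haveI := Fintype.ofFinite F
  let φ : Matrix (Fin 2) (Fin 2) F → Matrix (Fin 2) (Fin 2) F := fun R => R - X * R * Xᵀ
  have hinj : Function.Injective φ := by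
    intro R S hRS
    refine sub_eq_zero.1 (hg.eq_zero h ?_)
    simp only [φ] at hRS
    simp only [mul_sub, sub_mul]
    rw [sub_eq_sub_iff_sub_eq_sub] at hRS
    exact hRS.symm
  obtain ⟨R, hR⟩ := Finite.surjective_of_injective hinj K
  refine ⟨R, hinj ?_, hR⟩
  simp only [φ] at hR ⊢
  rw [hR]
  calc Rᵀ - X * Rᵀ * Xᵀ = (R - X * R * Xᵀ)ᵀ := by
        simp [transpose_mul, mul_assoc]
    _ = K := by rw [hR, hK]

abbrev Sp4 (F : Type*) [Field F] := symplecticGroup (Fin 2) F

/-- The Levi embedding. -/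
def levi (P : GL (Fin 2) F) : Sp4 F :=
  ⟨fromBlocks P.val 0 0 (P⁻¹ : GL (Fin 2) F).valᵀ, by
    rw [SymplecticGroup.fromBlocks_mem_iff]
    refine ⟨by simp, by simp, ?_⟩
    rw [← transpose_mul, ← Units.val_mul]
    simp⟩

theorem levi_val (P : GL (Fin 2) F) : (levi P).val =
    fromBlocks P.val 0 0 (P⁻¹ : GL (Fin 2) F).valᵀ := rfl

theorem levi_mul (P Q : GL (Fin 2) F) : levi (P * Q) = levi P * levi Q := by
  apply Subtype.ext
  simp [levi_val, fromBlocks_multiply, transpose_mul]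

theorem levi_one : levi (1 : GL (Fin 2) F) = 1 := by
  apply Subtype.ext
  simp [levi_val]

theorem levi_inv (P : GL (Fin 2) F) : levi P⁻¹ = (levi P)⁻¹ :=
  eq_inv_of_mul_eq_one_left (by rw [← levi_mul, inv_mul_cancel, levi_one])

/-- The companion matrix as a unit. -/
noncomputable def compU (hg : Good t a) : GL (Fin 2) F :=
  GeneralLinearGroup.mkOfDetNeZero (comp t a) (by rw [(inCls_comp t a).2]; exact hg.a_ne)

theorem compU_val (hg : Good t a) : (compU hg).val = comp t a := rfl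

/-- Conjugate to the base element. -/
def InC (hg : Good t a) (g : Sp4 F) : Prop := IsConj (levi (compU hg)) g

theorem levi_inC (hg : Good t a) {X : GL (Fin 2) F} (h : InCls t a X.val) : InC hg (levi X) := by
  obtain ⟨P, hP, hXP⟩ := h.exists_conj hg
  let U := GeneralLinearGroup.mkOfDetNeZero P hP
  refine isConj_iff.2 ⟨levi U, ?_⟩
  rw [← levi_inv, ← levi_mul, ← levi_mul]
  congr 1
  rw [mul_inv_eq_iff_eq_mul]
  exact Units.ext hXP.symm

theorem blocks_upper (hg : Good t a) {X K : Matrix (Fin 2) (Fin 2) F} (h : InCls t a X)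
    {D : Matrix (Fin 2) (Fin 2) F} (hM : fromBlocks X K 0 D ∈ symplecticGroup (Fin 2) F) [Finite F] :
    InC hg ⟨_, hM⟩ := by
  obtain ⟨-, h2, h3⟩ := SymplecticGroup.fromBlocks_mem_iff.1 hM
  simp only [transpose_zero, Matrix.zero_mul, sub_zero] at h3
  let U : GL (Fin 2) F := GeneralLinearGroup.mkOfDetNeZero X (by rw [h.2]; exact hg.a_ne)
  have hU : U.val = X := rfl
  have hDX : D * Xᵀ = 1 := mul_eq_one_comm.1 h3
  have hD : D = (U⁻¹ : GL (Fin 2) F).valᵀ := by
    refine left_inv_eq_right_inv hDX ?_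
    rw [← hU, ← transpose_mul, Units.inv_mul, transpose_one]
  have hS : (K * Xᵀ)ᵀ = K * Xᵀ := by
    rw [transpose_mul, transpose_transpose]
    calc X * Kᵀ = X * (Kᵀ * D) * Xᵀ := by rw [mul_assoc, mul_assoc, hDX, mul_one]
      _ = X * (Dᵀ * K) * Xᵀ := by rw [h2]
      _ = (X * Dᵀ) * K * Xᵀ := by simp only [mul_assoc]
      _ = K * Xᵀ := by
        rw [show X * Dᵀ = (D * Xᵀ)ᵀ by rw [transpose_mul, transpose_transpose], hDX,
          transpose_one, one_mul]
  obtain ⟨R, hRs, hR⟩ := hg.exists_symm h hS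
  have hu : fromBlocks 1 R 0 1 ∈ symplecticGroup (Fin 2) F := by
    rw [SymplecticGroup.fromBlocks_mem_iff]
    simp [hRs]
  refine (levi_inC hg (X := U) h).trans (isConj_iff.2 ⟨⟨_, hu⟩, ?_⟩)
  rw [mul_inv_eq_iff_eq_mul]
  apply Subtype.ext
  simp only [Submonoid.coe_mul, levi_val, hU, ← hD, fromBlocks_multiply]
  simp only [mul_zero, zero_mul, mul_one, one_mul, add_zero, zero_add]
  congr 1
  calc R * D = (R - X * R * Xᵀ) * D + X * R * (Xᵀ * D) := by
        rw [sub_mul, ← mul_assoc (X * R)]; abel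
    _ = X * R + K := by rw [hR, h3, mul_assoc, h3, mul_one, mul_one, add_comm]

theorem blocks_lower (hg : Good t a) {X K : Matrix (Fin 2) (Fin 2) F} (h : InCls t a X)
    {D : Matrix (Fin 2) (Fin 2) F} (hM : fromBlocks X 0 K D ∈ symplecticGroup (Fin 2) F) [Finite F] :
    InC hg ⟨_, hM⟩ := by
  obtain ⟨h1, -, h3⟩ := SymplecticGroup.fromBlocks_mem_iff.1 hM
  simp only [Matrix.mul_zero, sub_zero] at h3
  let U : GL (Fin 2) F := GeneralLinearGroup.mkOfDetNeZero X (by rw [h.2]; exact hg.a_ne)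
  have hU : U.val = X := rfl
  have hDX : D * Xᵀ = 1 := mul_eq_one_comm.1 h3
  have hD : D = (U⁻¹ : GL (Fin 2) F).valᵀ := by
    refine left_inv_eq_right_inv hDX ?_
    rw [← hU, ← transpose_mul, Units.inv_mul, transpose_one]
  have hS : (-(Xᵀ * K))ᵀ = -(Xᵀ * K) := by
    rw [transpose_neg, transpose_mul, transpose_transpose, h1]
  obtain ⟨R, hRs, hR⟩ := hg.exists_symm h.transpose hS
  rw [transpose_transpose] at hR
  have hu : fromBlocks 1 0 R 1 ∈ symplecticGroup (Fin 2) F := by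
    rw [SymplecticGroup.fromBlocks_mem_iff]
    simp [hRs]
  refine (levi_inC hg (X := U) h).trans (isConj_iff.2 ⟨⟨_, hu⟩, ?_⟩)
  rw [mul_inv_eq_iff_eq_mul]
  apply Subtype.ext
  simp only [Submonoid.coe_mul, levi_val, hU, ← hD, fromBlocks_multiply]
  simp only [mul_zero, zero_mul, mul_one, one_mul, add_zero, zero_add]
  congr 1
  calc R * X = D * (Xᵀ * R * X) := by rw [← mul_assoc, ← mul_assoc, hDX, one_mul]
    _ = D * (R - (R - Xᵀ * R * X)) := by rw [sub_sub_cancel]
    _ = D * R + D * (Xᵀ * K) := by rw [hR, sub_neg_eq_add, mul_add]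
    _ = K + D * R := by rw [← mul_assoc, hDX, one_mul, add_comm]

/-- A product of two class members. -/
def Two (hg : Good t a) (g : Sp4 F) : Prop := ∃ u v, InC hg u ∧ InC hg v ∧ g = u * v

theorem Two.conj {hg : Good t a} {g : Sp4 F} (h : Two hg g) (c : Sp4 F) :
    Two hg (c * g * c⁻¹) := by
  obtain ⟨u, v, hu, hv, rfl⟩ := h
  exact ⟨c * u * c⁻¹, c * v * c⁻¹, hu.trans (isConj_iff.2 ⟨c, rfl⟩),
    hv.trans (isConj_iff.2 ⟨c, rfl⟩), by group⟩

theorem two_of_block (hg : Good t a) [Finite F] {M : Sp4 F}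
    {X₁ X₂ : Matrix (Fin 2) (Fin 2) F} (h₁ : InCls t a X₁) (h₂ : InCls t a X₂)
    (hB : M.val.toBlocks₁₁ = X₁ * X₂) : Two hg M := by
  have hm := fromBlocks_toBlocks M.val
  rw [hB] at hm
  set C := M.val.toBlocks₁₂
  set D := M.val.toBlocks₂₁
  set E := M.val.toBlocks₂₂
  obtain ⟨hs, -, -⟩ := SymplecticGroup.fromBlocks_mem_iff.1 (hm ▸ M.2 :
    fromBlocks (X₁ * X₂) C D E ∈ symplecticGroup (Fin 2) F)
  let U₁ : GL (Fin 2) F := GeneralLinearGroup.mkOfDetNeZero X₁ (by rw [h₁.2]; exact hg.a_ne)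
  let U₂ : GL (Fin 2) F := GeneralLinearGroup.mkOfDetNeZero X₂ (by rw [h₂.2]; exact hg.a_ne)
  set W := (U₂⁻¹ : GL (Fin 2) F).val with hW
  have hXW : X₂ * W = 1 := U₂.mul_inv
  have hWX : W * X₂ = 1 := U₂.inv_mul
  have hl : fromBlocks X₁ 0 (D * W) (U₁⁻¹ : GL (Fin 2) F).valᵀ ∈ symplecticGroup (Fin 2) F := by
    rw [SymplecticGroup.fromBlocks_mem_iff]
    refine ⟨?_, by simp, ?_⟩
    · calc X₁ᵀ * (D * W) = (W ᵀ * X₂ᵀ) * X₁ᵀ * (D * W) := by
            rw [← transpose_mul X₂ W, hXW, transpose_one, one_mul]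
        _ = Wᵀ * ((X₁ * X₂)ᵀ * D) * W := by simp only [transpose_mul, mul_assoc]
        _ = Wᵀ * (Dᵀ * (X₁ * X₂)) * W := by rw [hs]
        _ = (D * W)ᵀ * X₁ * (X₂ * W) := by simp only [transpose_mul, mul_assoc]
        _ = _ := by rw [hXW, mul_one]
    · rw [← transpose_mul, show X₁ = U₁.val from rfl, Units.inv_mul]
      simp
  set u : Sp4 F := ⟨_, hl⟩ with hu
  refine ⟨u, u⁻¹ * M, blocks_lower hg h₁ hl, ?_, by group⟩
  set v := u⁻¹ * M with hv
  have huv : u.val * v.val = M.val := by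
    rw [← Submonoid.coe_mul, hv, mul_inv_cancel_left]
  have hvb := fromBlocks_toBlocks v.val
  rw [← hvb, ← hm, hu, fromBlocks_multiply, fromBlocks_inj] at huv
  simp only [zero_mul, add_zero] at huv
  obtain ⟨e1, -, e3, -⟩ := huv
  have hv1 : v.val.toBlocks₁₁ = X₂ := by
    have := congrArg ((U₁⁻¹ : GL (Fin 2) F).val * ·) e1
    rwa [← mul_assoc, ← mul_assoc, show X₁ = U₁.val from rfl, Units.inv_mul, one_mul, one_mul] at this
  have hv3 : v.val.toBlocks₂₁ = 0 := by
    rw [hv1, mul_assoc, hWX, mul_one, add_eq_left] at e3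
    have := congrArg (X₁ᵀ * ·) e3
    rwa [← mul_assoc, ← transpose_mul, show X₁ = U₁.val from rfl, Units.inv_mul, transpose_one,
      one_mul, mul_zero] at this
  rw [hv1, hv3] at hvb
  have := blocks_upper hg h₂ (hvb ▸ v.2 :
    fromBlocks X₂ v.val.toBlocks₁₂ 0 v.val.toBlocks₂₂ ∈ symplecticGroup (Fin 2) F)
  convert this using 1
  exact Subtype.ext hvb.symm

end H31.SP4
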