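import Cfsg.Agent.H31.SpFour.Frame
import Cfsg.Prelude.Def_Classical

/-!
`PSp(4, q)`, `q ≥ 3`, has a semisimple class whose square covers all non-identity elements.
-/

set_option autoImplicit false
set_option linter.style.haveILetI false

open Matrix Polynomial

namespace H31.SP4

universe u

variable {F : Type u} [Field F]

theorem exists_good [Fintype F] (h3 : 3 ≤ Fintype.card F) : ∃ t a : F, Good t a := by
  classical
  obtain ⟨c, hc⟩ : ∃ c : F, ∀ y : F, y * y - y ≠ c := by
    have : ¬ Function.Surjective fun y : F => y * y - y := fun hs =>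
      zero_ne_one ((Finite.injective_iff_surjective.2 hs) (by simp) : (0 : F) = 1)
    simpa [Function.Surjective] using this
  have hc0 : c ≠ 0 := fun h => hc 0 (by simp [h])
  obtain ⟨t, ht, hta⟩ : ∃ t : F, t ≠ 0 ∧ -(c * (t * t)) ≠ 1 := by
    by_contra hne
    push Not at hne
    have h1 := hne 1 one_ne_zero
    have hall : ∀ t : F, t = 0 ∨ t = 1 ∨ t = -1 := by
      intro t
      by_cases ht : t = 0
      · exact Or.inl ht
      · refine Or.inr (mul_self_eq_one_iff.1 ?_)
        refine mul_left_cancel₀ hc0 ?_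
        linear_combination -(hne t ht) + h1
    have hsub : (Finset.univ : Finset F) ⊆ {0, 1, -1} := fun t _ => by
      simpa using hall t
    have hle := (Finset.card_le_card hsub).trans Finset.card_le_three
    rw [Finset.card_univ] at hle
    have hcast : ((Fintype.card F : ℕ) : F) = 0 := FiniteField.cast_card_eq_zero F
    rw [show Fintype.card F = 3 by omega] at hcast
    refine hc (-1) ?_
    push_cast at hcast
    linear_combination hcast + h1
  refine ⟨t, -(c * (t * t)), ht, hta, fun z hz => hc (z / t) ?_⟩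
  field_simp
  linear_combination hz

theorem comp_pow {t a : F} [Fintype F] (hg : Good t a) :
    comp t a ^ (Fintype.card F ^ 2 - 1) = 1 := by
  set f : F[X] := C 1 * X ^ 2 + C (-t) * X + C a with hf
  have hdeg : f.natDegree = 2 := natDegree_quadratic one_ne_zero
  have hf0 : f ≠ 0 := fun h => by simp [h] at hdeg
  have hirr : Irreducible f := by
    refine irreducible_of_degree_le_three_of_not_isRoot ?_ fun z hz => hg.no_root z ?_
    · rw [hdeg]; decide
    · have := hz.eq_zero
      simp [hf] at this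
      linear_combination this
  haveI := Fact.mk hirr
  haveI : Module.Finite F (AdjoinRoot f) := (AdjoinRoot.powerBasis hf0).finite
  haveI : Finite (AdjoinRoot f) := Module.finite_of_finite F
  haveI := Fintype.ofFinite (AdjoinRoot f)
  have hcard : Fintype.card (AdjoinRoot f) = Fintype.card F ^ 2 := by
    rw [Module.card_eq_pow_finrank (K := F), (AdjoinRoot.powerBasis hf0).finrank,
      AdjoinRoot.powerBasis_dim, hdeg]
  have hr : (AdjoinRoot.root f) ≠ 0 := by
    intro h0
    have h1 : AdjoinRoot.mk f X = 0 := by rw [AdjoinRoot.mk_X]; exact h0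
    have h2 := natDegree_le_of_dvd (AdjoinRoot.mk_eq_zero.1 h1) X_ne_zero
    rw [hdeg, natDegree_X] at h2
    omega
  have hp := FiniteField.pow_card_sub_one_eq_one _ hr
  rw [hcard] at hp
  have hdvd : f ∣ X ^ (Fintype.card F ^ 2 - 1) - 1 := by
    rw [← AdjoinRoot.mk_eq_zero, map_sub, map_pow, AdjoinRoot.mk_X, map_one, hp, sub_self]
  obtain ⟨q, hq⟩ := hdvd
  have h0 : aeval (comp t a) f = 0 := by
    have := (inCls_comp t a).cayley
    simp [hf, pow_two, this, Algebra.algebraMap_eq_smul_one]
    abel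
  have := congrArg (aeval (comp t a)) hq
  rw [map_mul, h0, zero_mul, map_sub, map_pow, aeval_X, map_one, sub_eq_zero] at this
  exact this

theorem levi_pow {t a : F} [Fintype F] (hg : Good t a) :
    levi (compU hg) ^ (Fintype.card F ^ 2 - 1) = 1 := by
  have hmul : ∀ n : ℕ, levi (compU hg) ^ n = levi (compU hg ^ n) := by
    intro n
    induction n with
    | zero => rw [pow_zero, pow_zero, levi_one]
    | succ n ih => rw [pow_succ, ih, pow_succ, levi_mul]
  rw [hmul, show compU hg ^ (Fintype.card F ^ 2 - 1) = 1 from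
    Units.ext (by rw [Units.val_pow_eq_pow_val, compU_val, comp_pow hg, Units.val_one]), levi_one]

theorem psp_four_covers [Fintype F] (p : ℕ) [Fact p.Prime] [CharP F p]
    (h3 : 3 ≤ Fintype.card F) :
    ∃ x : Cfsg.PSp 2 F, ¬ p ∣ orderOf x ∧ ∀ g : Cfsg.PSp 2 F, g ≠ 1 →
      ∃ u v : Cfsg.PSp 2 F, g = (u * x * u⁻¹) * (v * x * v⁻¹) := by
  obtain ⟨t, a, hg⟩ := exists_good h3
  set π := QuotientGroup.mk' (Subgroup.center (Sp4 F)) with hπ
  refine ⟨π (levi (compU hg)), ?_, ?_⟩
  · intro hdvd
    have h1 : p ∣ Fintype.card F ^ 2 - 1 :=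
      hdvd.trans (orderOf_dvd_of_pow_eq_one (by rw [← map_pow, levi_pow hg, map_one]))
    obtain ⟨n, -, hn⟩ := FiniteField.card F p
    have h2 : p ∣ Fintype.card F ^ 2 := by
      rw [hn]; exact (dvd_pow_self p n.ne_zero).trans (dvd_pow_self _ two_ne_zero)
    have h4 : 1 ≤ Fintype.card F ^ 2 := Nat.one_le_pow _ _ (by omega)
    have h5 := Nat.dvd_sub h2 h1
    rw [show Fintype.card F ^ 2 - (Fintype.card F ^ 2 - 1) = 1 by omega, Nat.dvd_one] at h5
    exact (Fact.out : p.Prime).one_lt.ne' h5
  · intro g hg1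
    obtain ⟨G, rfl⟩ := QuotientGroup.mk'_surjective _ g
    have hneg : negOne F ∈ Subgroup.center (Sp4 F) :=
      Subgroup.mem_center_iff.2 fun c => negOne_central c
    have hG1 : G ≠ 1 := fun h => hg1 (by rw [h, map_one])
    have hG2 : G ≠ negOne F := fun h => hg1 (by
      rw [h]; exact (QuotientGroup.eq_one_iff _).2 hneg)
    have hfin : ∀ {H : Sp4 F}, Two hg H → π H = π G →
        ∃ u v : Cfsg.PSp 2 F, π G = (u * π (levi (compU hg)) * u⁻¹) *
          (v * π (levi (compU hg)) * v⁻¹) := by
      rintro H ⟨x, y, hx, hy, rfl⟩ hH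
      obtain ⟨c, hc⟩ := isConj_iff.1 hx
      obtain ⟨d, hd⟩ := isConj_iff.1 hy
      refine ⟨π c, π d, ?_⟩
      rw [← hH, ← hc, ← hd]
      simp only [map_mul, map_inv]
    rcases covers hg G hG1 hG2 with h | h
    · exact hfin h rfl
    · refine hfin h ?_
      rw [map_mul, show π (negOne F) = 1 from (QuotientGroup.eq_one_iff _).2 hneg, one_mul]

end H31.SP4
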