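import Cfsg.Agent.H31.SpFour.Levi

/-!
Which `2 × 2` matrices are products of two matrices with trace `t` and determinant `a`.
-/

set_option autoImplicit false
set_option linter.style.haveILetI false

open Matrix

namespace H31.SP4

variable {F : Type*} [Field F] {t a : F}

/-- `B` is a product of two class members. -/
def InK (t a : F) (B : Matrix (Fin 2) (Fin 2) F) : Prop :=
  ∃ X₁ X₂, InCls t a X₁ ∧ InCls t a X₂ ∧ B = X₁ * X₂

theorem inK_of (hg : Good t a) {B A : Matrix (Fin 2) (Fin 2) F} (hA : InCls t a A)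
    (hd : B.det = a * a) (ht : (B * A.adjugate).trace = a * t) : InK t a B := by
  have ha := hg.a_ne
  refine ⟨a⁻¹ • (B * A.adjugate), A, ⟨?_, ?_⟩, hA, ?_⟩
  · rw [trace_smul, ht, smul_eq_mul, inv_mul_cancel_left₀ ha]
  · rw [det_smul, det_mul, det_adjugate, hd, hA.2]
    simp only [Fintype.card_fin]
    field_simp
    norm_num
  · rw [smul_mul_assoc, mul_assoc, adjugate_mul, hA.2, mul_smul_comm, mul_one, smul_smul,
      inv_mul_cancel₀ ha, one_smul]

theorem inK_scalar (hg : Good t a) : InK t a (a • 1 : Matrix (Fin 2) (Fin 2) F) := by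
  refine inK_of hg (inCls_comp t a) ?_ ?_
  · simp [pow_two]
  · rw [smul_mul_assoc, one_mul, trace_smul, smul_eq_mul, adjugate_fin_two, trace_fin_two]
    simp [comp]

theorem inK_triangular (hg : Good t a) {c y d : F} (hcd : c * d = a * a) (hy : y ≠ 0)
    (hc : c ≠ a) : InK t a !![c, y; 0, d] := by
  set s := t * (c - a) / y with hs
  have hs0 : s ≠ 0 := div_ne_zero (mul_ne_zero hg.t_ne (sub_ne_zero.2 hc)) hy
  refine inK_of hg (A := !![0, -(a / s); s, t]) ⟨by simp [trace_fin_two], ?_⟩ ?_ ?_
  · rw [det_fin_two_of]; field_simp; ring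
  · rw [det_fin_two_of]; linear_combination hcd
  · have hys : y * s = t * (c - a) := by rw [hs]; field_simp
    rw [adjugate_fin_two_of, trace_fin_two]
    simp [Matrix.mul_apply, Fin.sum_univ_two]
    linear_combination -hys

theorem inK_skew (hg : Good t a) [Fintype F] (h2 : ringChar F ≠ 2) :
    InK t a !![0, -(a * a); 1, 0] := by
  obtain ⟨p, s, hps⟩ := FiniteField.exists_root_sum_quadratic
    (f := Polynomial.C 1 * Polynomial.X ^ 2 + Polynomial.C (-t) * Polynomial.X + Polynomial.C a)
    (g := Polynomial.C (a * a) * Polynomial.X ^ 2 + Polynomial.C (-(a * t)) * Polynomial.X +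
      Polynomial.C 0)
    (Polynomial.degree_quadratic one_ne_zero)
    (Polynomial.degree_quadratic (mul_ne_zero hg.a_ne hg.a_ne))
    (FiniteField.odd_card_of_char_ne_two h2)
  simp only [Polynomial.eval_add, Polynomial.eval_mul, Polynomial.eval_C, Polynomial.eval_pow,
    Polynomial.eval_X] at hps
  refine inK_of hg (A := !![p, a * a * s - a * t; s, t - p]) ⟨by simp [trace_fin_two], ?_⟩ ?_ ?_
  · rw [det_fin_two_of]; linear_combination -hps
  · rw [det_fin_two_of]; ring
  · rw [adjugate_fin_two_of, trace_fin_two]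
    simp [Matrix.mul_apply, Fin.sum_univ_two]


/-- The matrix `B` needed for a given invertible `N` with nonzero corner. -/
theorem exists_inK (hg : Good t a) [Fintype F] {N : Matrix (Fin 2) (Fin 2) F}
    (h : N 0 0 ≠ 0 ∨ (N 1 1 = 0 ∧ N 1 0 = -N 0 1)) :
    ∃ B, InK t a B ∧ Nᵀ * B = Bᵀ * N := by
  by_cases hsym : N 1 0 = N 0 1
  · refine ⟨_, inK_scalar hg, ?_⟩
    have hN : Nᵀ = N := by
      ext i j; fin_cases i <;> fin_cases j <;> simp [hsym]
    rw [hN, transpose_smul, transpose_one, mul_smul_comm, smul_mul_assoc, one_mul, mul_one]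
  set α := N 0 0 with hα
  set β := N 0 1 with hβ
  set γ := N 1 0 with hγ
  by_cases hα0 : α = 0
  · obtain ⟨hδ, hγ'⟩ := h.resolve_left (not_not_intro hα0)
    have h2 : ringChar F ≠ 2 := by
      intro hc
      haveI : CharP F 2 := ringChar.of_eq hc
      exact hsym (hγ'.trans (CharTwo.neg_eq β))
    refine ⟨_, inK_skew hg h2, ?_⟩
    rw [← N.etaExpand_eq]
    ext i j
    fin_cases i <;> fin_cases j <;>
      simp [Matrix.etaExpand, Matrix.mul_apply, Fin.sum_univ_two, ← hα, ← hβ, ← hγ, hδ, hγ', hα0] <;>
      ring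
  have key : ∃ c : F, c ≠ 0 ∧ c ≠ a ∧ β * c * c ≠ γ * (a * a) := by
    by_contra hne
    push Not at hne
    have h1 : β = γ * (a * a) := by simpa using hne 1 one_ne_zero hg.a_ne_one.symm
    have hc : ∀ c : F, c = 0 ∨ c = a ∨ c = 1 ∨ c = -1 := by
      intro c
      by_contra hc
      push Not at hc
      obtain ⟨hc0, hca, hc1, hc1'⟩ := hc
      have h2 := hne c hc0 hca
      rw [← h1] at h2
      have h3 : β * ((c - 1) * (c + 1)) = 0 := by linear_combination h2
      rcases mul_eq_zero.1 h3 with hb | hb
      · refine hsym ?_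
        rw [hb]
        have h4 : γ * (a * a) = 0 := by rw [← h1, hb]
        exact (mul_eq_zero.1 h4).resolve_right (mul_ne_zero hg.a_ne hg.a_ne)
      · rcases mul_eq_zero.1 hb with hb | hb
        · exact hc1 (sub_eq_zero.1 hb)
        · exact hc1' (eq_neg_of_add_eq_zero_left hb)
    have ha := hg.a_ne
    have ha1 := hg.a_ne_one
    -- every element is one of `0, 1, -1, a`
    rcases hc (a + 1) with he | he | he | he
    · refine hsym ?_
      rw [h1, eq_neg_of_add_eq_zero_left he]; ring
    · exact one_ne_zero (add_eq_left.1 he)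
    · exact ha (add_eq_right.1 he)
    · -- `a = -2`
      rcases hc (-a) with hf | hf | hf | hf
      · exact ha (neg_eq_zero.1 hf)
      · -- `-a = a`
        rcases hc (a * a) with hk | hk | hk | hk
        · exact mul_ne_zero ha ha hk
        · exact ha1 (mul_left_cancel₀ ha (hk.trans (mul_one a).symm))
        · refine hsym ?_
          rw [h1, hk, mul_one]
        · refine hsym ?_
          rw [h1, hk]
          have h2 : (2 : F) = 0 := by
            have h3 : (2 : F) * a = 0 := by linear_combination -hf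
            exact (mul_eq_zero.1 h3).resolve_right ha
          linear_combination γ * h2
      · refine hsym ?_
        rw [h1, ← neg_mul_neg a a, hf]; ring
      · exact ha1 (neg_inj.1 hf)
  obtain ⟨c, hc0, hca, hcne⟩ := key
  set d := a * a / c with hd
  have hcd : c * d = a * a := by rw [hd]; field_simp
  set y := (β * c - γ * d) / α with hy
  have hy0 : y ≠ 0 := by
    refine div_ne_zero ?_ hα0
    intro h0
    apply hcne
    linear_combination c * h0 + γ * hcd
  have hαy : α * y = β * c - γ * d := by rw [hy]; field_simp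
  clear_value y d
  refine ⟨_, inK_triangular hg hcd hy0 hca, ?_⟩
  ext i j
  fin_cases i <;> fin_cases j <;>
    simp [Matrix.mul_apply, Fin.sum_univ_two, ← hα, ← hβ, ← hγ]
  all_goals first | linear_combination hαy | linear_combination -hαy | ring1

end H31.SP4
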